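import Cfsg.Agent.Lib.CosetEnum.Defs

/-! Generated table data. -/

set_option autoImplicit false
set_option maxRecDepth 20000

namespace Cfsg.Lib.HeldType.Amalgam.M242

open Cfsg.Lib.CosetEnum

/-- Table data. -/
def tabZ_0 : Tab :=
  (.leaf 0x3c0000000000000000a400000000000000003b0000000000000000a300000000000000003a000000000000000039000000000000000038000000000000000037)

end Cfsg.Lib.HeldType.Amalgam.M242
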