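import Cfsg.Agent.Lib.CosetEnum.Defs

/-! Generated table data. -/

set_option autoImplicit false
set_option maxRecDepth 20000

namespace Cfsg.Lib.HeldType.Amalgam.M242

open Cfsg.Lib.CosetEnum

/-- Table data. -/
def tabF_0 : Tab :=
  (.node 1 (.leaf 0x80000260000000000080000230000000000080000200000000000000000070000000000000000050000000000000000030000000000000000020000000000000000010000000000000000000000000000f80006e40000000000d00006c40000000000d00006a00000000000c80006830000000000c00006600000000000a80006450000000000a80006230000000000a80006000000000000980005e70000000000980005c30000000000980005a20000000000900005820000000000880005650000000000880005420000000000880005200000000000800005050000000000800004e40000000000800004c30000000000800004a00000000000780004830000000000700004640000000000700004430000000000700004220000000000600004050000000000600003e30000000000600003c00000000000580003a60000000000580003800000000000500003650000000000500003430000000000500003200000000000400003070000000000400002e50000000000380002c50000000000300002a70000000000300002850000000000280002650000000000280002440000000000280002230000000000280002020000000000280001e00000000000200001c60000000000200001a00000000000180001870000000000180001650000000000100001470000000000100001250000000000100001040000000000100000e20000000000100000c10000000000080000a7000000000008000085000000000008000061000000000000000046000000000000000024) (.node 1 (.leaf 0xf80004c20000000000f80002210000000000f80004800000000001000004630000000000e00004460000000001000004010000000000f800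03e70000000000f00003c50000000000780003c10000000000700003a00000000000e00003840000000000e00003820000000000e00003810000000000600003020000000000c00003010000000000b80002e70000000000480002e30000000000a00002e20000000000780001e70000000000380002070000000000b00002c70000000000a00002c30000000000480002c20000000000a80002a20000000000a80002a10000000000580002870000000000980002610000000000980002600000000000880002270000000000800002010000000000780001e50000000000200001a40000000000680001a10000000000680001a20000000000600001810000000000580001630000000000200001610000000000580001620000000000500001420000000000500001410000000000200001270000000000480001210000000000400001060000000000300001030000000000300001020000000000400001010000000000400001000000000000380000430000000000300000c00000000000380000e00000000000380000e40000000000380000e10000000000300000c60000000000180000e60000000000300000c40000000000280000a1000000000020000083000000000020000082000000000018000060000000000018000063000000000018000064000000000018000062000000000010000040000000000008000022) (.leaf 0x600000000000000000400000000004000003f00000000003000001f00000000003000011f00000000003000005f0000000000a800015f00000000018800035f0000000001600006c60000000001600004c40000000001380006e20000000001800006a30000000001400006870000000000c80006670000000001480006470000000001200003670000000000d80006410000000000d80006400000000001500006270000000001280006070000000000c80006050000000001800006010000000000d00003420000000000d00003410000000001300005e00000000001280005e30000000001080005a40000000001100005c40000000000c00005c50000000001400005c00000000000f80005a500000000014000047f0000000001000005620000000000c00005430000000001300005410000000000f00005230000000000d00004c7)))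

end Cfsg.Lib.HeldType.Amalgam.M242
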